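import Mathlib
import Cfsg.Agent.TcData.SuzX.Common

set_option autoImplicit false
set_option Elab.async false
set_option maxRecDepth 100000
set_option linter.all false

namespace Cfsg.Agent.TcData.SuzX.Cl

open Cfsg.Spor Cfsg.Agent.Lib.TcFacts Cfsg.Agent.Lib.TcBits Cfsg.Agent.Lib.TcPres Cfsg.Spor.Suz Cfsg.Agent.TcData.SuzX

/-- The generators of the subgroup. -/
abbrev SS : Set (FreeGroup Gen) := {}

/-- The subgroup. -/
abbrev HH : Subgroup (PresentedGroup RR) := (Subgroup.closure SS).map (PresentedGroup.mk RR)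

/-- Long generators of the subgroup. -/
noncomputable def macros : List (FreeGroup Gen) := []

/-- The relators, as words in letters. -/
def Rels : List (List ℕ) := [
  [0, 0],
  [0, 1, 0, 1, 0, 1, 0, 1, 0, 1],
  [0, 2, 0, 2],
  [0, 3, 0, 3],
  [0, 4, 0, 4],
  [0, 5, 0, 5],
  [0, 6, 0, 6],
  [1, 0, 1, 0, 1, 0, 1, 0, 1, 0],
  [1, 1],
  [1, 2, 1, 2, 1, 2],
  [1, 3, 1, 3],
  [1, 4, 1, 4],
  [1, 5, 1, 5, 1, 5],
  [1, 6, 1, 6, 1, 6],
  [2, 0, 2, 0],
  [2, 1, 2, 1, 2, 1],
  [2, 2],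
  [2, 3, 2, 3, 2, 3, 2, 3, 2, 3, 2, 3, 2, 3, 2, 3],
  [2, 4, 2, 4],
  [2, 5, 2, 5],
  [2, 6, 2, 6],
  [3, 0, 3, 0],
  [3, 1, 3, 1],
  [3, 2, 3, 2, 3, 2, 3, 2, 3, 2, 3, 2, 3, 2, 3, 2],
  [3, 3],
  [3, 4, 3, 4, 3, 4],
  [3, 5, 3, 5],
  [3, 6, 3, 6],
  [4, 0, 4, 0],
  [4, 1, 4, 1],
  [4, 2, 4, 2],
  [4, 3, 4, 3, 4, 3],
  [4, 4],
  [4, 5, 4, 5],
  [4, 6, 4, 6],
  [5, 0, 5, 0],
  [5, 1, 5, 1, 5, 1],
  [5, 2, 5, 2],
  [5, 3, 5, 3],
  [5, 4, 5, 4],
  [5, 5],
  [5, 6, 5, 6, 5, 6, 5, 6],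
  [6, 0, 6, 0],
  [6, 1, 6, 1, 6, 1],
  [6, 2, 6, 2],
  [6, 3, 6, 3],
  [6, 4, 6, 4],
  [6, 5, 6, 5, 6, 5, 6, 5],
  [6, 6],
  [0, 3, 2, 3, 2, 3, 2, 3, 2],
  [0, 6, 5, 6, 5],
  [0, 1, 2, 5, 0, 1, 2, 5, 0, 1, 2, 5, 0, 1, 2, 5, 0, 1, 2, 5],
  [1, 5, 6, 1, 5, 6, 1, 5, 6, 1, 5, 6, 1, 5, 6],
  [1, 2, 3, 2, 3, 1, 2, 3, 2, 3, 1, 2, 3, 2, 3, 1, 2, 3, 2, 3, 1, 2, 3, 2, 3, 4, 1, 2, 3, 2, 3, 1, 2, 3, 2, 3, 1, 2, 3, 2, 3, 1, 2, 3, 2, 3, 1, 2, 3, 2, 3, 4, 1, 2, 3, 2, 3, 1, 2, 3, 2, 3, 1, 2, 3, 2, 3, 1, 2, 3, 2, 3, 1, 2, 3, 2, 3, 4],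
  [1, 2, 3, 4, 5, 6],
  [2, 3, 2, 3, 2, 3, 2, 3, 0],
  [5, 6, 5, 6, 0],
  [5, 2, 1, 0, 5, 2, 1, 0, 5, 2, 1, 0, 5, 2, 1, 0, 5, 2, 1, 0],
  [6, 5, 1, 6, 5, 1, 6, 5, 1, 6, 5, 1, 6, 5, 1],
  [4, 3, 2, 3, 2, 1, 3, 2, 3, 2, 1, 3, 2, 3, 2, 1, 3, 2, 3, 2, 1, 3, 2, 3, 2, 1, 4, 3, 2, 3, 2, 1, 3, 2, 3, 2, 1, 3, 2, 3, 2, 1, 3, 2, 3, 2, 1, 3, 2, 3, 2, 1, 4, 3, 2, 3, 2, 1, 3, 2, 3, 2, 1, 3, 2, 3, 2, 1, 3, 2, 3, 2, 1, 3, 2, 3, 2, 1],
  [6, 5, 4, 3, 2, 1],
  [0, 0],
  [0, 0],
  [1, 1],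
  [1, 1],
  [2, 2],
  [2, 2],
  [3, 3],
  [3, 3],
  [4, 4],
  [4, 4],
  [5, 5],
  [5, 5],
  [6, 6],
  [6, 6]]

/-- The table. -/
noncomputable def T : Tr := (.node (.node (.node (.node (.leaf (nat_lit 0x8ee5e04ac0285201325009118044840200608120007800042e60823a00e190068a80304c0161e00a0e00480000000000000400c00405001c2000c0c0050400201000c0400400000000000000000000000000000000000000000000000)) (.leaf (nat_lit 0x42cb9f414cb1aa2188890ba4a9ed400000000005217080020752cc00000000000000000000000000000000000000000ed6efd00000026953800000000009c5a78000000000000071d94e98000000000000000000000000012c10e00000))) (.node (.leaf (nat_lit 0x1aeda81e8178854183d8b840000027d791b57477e1388000d346ba2000000000013050c00001280f5271c300000000067aa981000000000034ec0600000d2b1a920d140000000032c89c0ccaa3661511220358601a11030e08066f6270)) (.leaf (nat_lit 0x80e6d3100000000000000004804b210c2b06090000000003da850b1001cf00000000000000000000000000408c50001eb3a82b00000000000000000000000000000001f45a6000f29b5908000000000000000000003c833c00000f4210))))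 (.node (.node (.leaf (nat_lit 0x11df46140000000000000000a0409b8058000000000000008ac9d08d602b660153080a574050200c2000000888100004368f035b013ac80995804a00000550120000000000000016c99e3868705400469215f4008e0000013c04400000)) (.leaf (nat_lit 0x5356b798000000000000000000001b489c000006c18c8002968d8a800000670c500000000000d440d00000340b60001494c896000000000018829400000641e60000018c52e000a3a968b80000000000000005e08500000000000be5d6))) (.node (.leaf (nat_lit 0x2aebdb4f1e68c00000c69a400000000000000000000000014b092a4000000000000000302466760c5000000000000008d3cb93380e20000000000000000392240000000000000045b57aa51303cd430800000000001b101c00000d226a)) (.leaf (nat_lit 0x0))))) (.node (.node (.node (.leaf (nat_lit 0xaeea9053004216181450af00000000000940201c1268000532e88a8c01f4300f0485050403a00000280490c093000027ad6833d00e1e006c000000e1013a00d0000000000000012cfaa19b8064d0030620172f00b028304b402a2424a)) (.leaf (nat_lit 0x4b55a361703920000000000000000000000000000000000256cdda6000005a0c4800000000000000000000000000001297b152000000000000000000000000002b8e300000000092ae7108000000000000000000000000000000000000)))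 (.node (.leaf (nat_lit 0x22589f580000000000320a2553528cc78c000000000000010f3aa240000000000543328c02094eccc000003009a00008399481000000000000000160e4c850799702100000000036d0ac996070e9591400000000005232340000000000)) (.leaf (nat_lit 0x20934af400000000002482a12c123931e90000000000000103c3942c687ba2c33f106638708800000238e5800000)))) (.node (.node (.leaf (nat_lit 0x18563625fc064f803100000000001e0060000000000000009ae20103c1c24e0d08000000000000000000000f8c200004b6cf87540f18d0609d82dc00000000003b80bc6c58e00024ba843000001d005c2c14270016b283a56014a2e286)) (.leaf (nat_lit 0x68e0c980000000000000000000000000000000000000000316ee1bd186f4000003a9334000000000000000000000001875e9150000000000000000e210c00000000001c8bba000b2bf8ed00000000000000008f3b9b7832c0000000000))) (.node (.leaf (nat_lit 0x3362cc6d1c38d146b448284000000000000000000000000197125b8000000000022131c000000000000000000000000c77911500000000000000008410600000000001cc4da00056caa0d9f071400000000003f2440000000000000000))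 (.leaf (nat_lit 0x0))))))

/-- The words. -/
noncomputable def WT : Tr := (.node (.node (.node (.node (.node (.node (.leaf (nat_lit 0x22)) (.leaf (nat_lit 0x5672348))) (.node (.leaf (nat_lit 0x7474)) (.leaf (nat_lit 0x0)))) (.node (.node (.leaf (nat_lit 0x5151)) (.leaf (nat_lit 0x0))) (.node (.leaf (nat_lit 0x5656)) (.leaf (nat_lit 0x0))))) (.node (.node (.node (.leaf (nat_lit 0x66)) (.leaf (nat_lit 0x4343243432434324343243432543432434324343243432434325434324343243432434324343258))) (.node (.leaf (nat_lit 0x67617)) (.leaf (nat_lit 0x0)))) (.node (.node (.leaf (nat_lit 0x5252)) (.leaf (nat_lit 0x0))) (.node (.leaf (nat_lit 0x567234)) (.leaf (nat_lit 0x0)))))) (.node (.node (.node (.node (.leaf (nat_lit 0x44)) (.leaf (nat_lit 0x1434343438))) (.node (.leaf (nat_lit 0x7575)) (.leaf (nat_lit 0x0)))) (.node (.node (.leaf (nat_lit 0x7171)) (.leaf (nat_lit 0x0))) (.node (.leaf (nat_lit 0x765432)) (.leaf (nat_lit 0x0))))) (.node (.node (.node (.leaf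 (nat_lit 0x3131)) (.leaf (nat_lit 0x12121212128))) (.node (.leaf (nat_lit 0x232323)) (.leaf (nat_lit 0x0)))) (.node (.node (.leaf (nat_lit 0x6363)) (.leaf (nat_lit 0x0))) (.node (.leaf (nat_lit 0x63638)) (.leaf (nat_lit 0x0))))))) (.node (.node (.node (.node (.node (.leaf (nat_lit 0x33)) (.leaf (nat_lit 0x7234568))) (.node (.leaf (nat_lit 0x6565)) (.leaf (nat_lit 0x0)))) (.node (.node (.leaf (nat_lit 0x6161)) (.leaf (nat_lit 0x0))) (.node (.leaf (nat_lit 0x5757)) (.leaf (nat_lit 0x0))))) (.node (.node (.node (.leaf (nat_lit 0x77)) (.leaf (nat_lit 0x2345678))) (.node (.leaf (nat_lit 0x4141)) (.leaf (nat_lit 0x0)))) (.node (.node (.leaf (nat_lit 0x5353)) (.leaf (nat_lit 0x0))) (.node (.leaf (nat_lit 0x5454548)) (.leaf (nat_lit 0x0)))))) (.node (.node (.node (.node (.leaf (nat_lit 0x55)) (.leaf (nat_lit 0x4327658))) (.node (.leaf (nat_lit 0x76716)) (.leaf (nat_lit 0x0)))) (.node (.node (.leaf (nat_lit 0x4242)) (.leaf (nat_lit 0x0))) (.node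 (.leaf (nat_lit 0x2424)) (.leaf (nat_lit 0x0))))) (.node (.node (.node (.leaf (nat_lit 0x11)) (.leaf (nat_lit 0x632163216321632163218))) (.node (.leaf (nat_lit 0x432765)) (.leaf (nat_lit 0x0)))) (.node (.node (.leaf (nat_lit 0x7373)) (.leaf (nat_lit 0x0))) (.node (.leaf (nat_lit 0x73738)) (.leaf (nat_lit 0x0))))))))

/-- Side data. -/
noncomputable def ST : Tr := (.node (.leaf (nat_lit 0x8e6800b04296304208c60c630a3184042310715084c39a2518306495398c214459700168893ca49e66270014016a40052002a0319000c800320af100180108c88460023)) (.leaf (nat_lit 0x61d300100006cc18a405108e400048618860c4224b0c4cc40aa3146336e10720c0a03174000f945d0c2e8249a)))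

/-- Hints for the words. -/
noncomputable def HT : Tr := (.node (.node (.node (.node (.node (.node (.leaf (nat_lit 0x8)) (.leaf (nat_lit 0x100303c))) (.node (.leaf (nat_lit 0x1b)) (.leaf (nat_lit 0x0)))) (.node (.node (.leaf (nat_lit 0x4)) (.leaf (nat_lit 0x0))) (.node (.leaf (nat_lit 0x1021)) (.leaf (nat_lit 0x0))))) (.node (.node (.node (.leaf (nat_lit 0x28)) (.leaf (nat_lit 0x1019035))) (.node (.leaf (nat_lit 0x3038)) (.leaf (nat_lit 0x0)))) (.node (.node (.leaf (nat_lit 0xb)) (.leaf (nat_lit 0x0))) (.node (.leaf (nat_lit 0x303c)) (.leaf (nat_lit 0x0)))))) (.node (.node (.node (.node (.leaf (nat_lit 0x18)) (.leaf (nat_lit 0x1000037))) (.node (.leaf (nat_lit 0x22)) (.leaf (nat_lit 0x0)))) (.node (.node (.leaf (nat_lit 0x6)) (.leaf (nat_lit 0x0))) (.node (.leaf (nat_lit 0x36)) (.leaf (nat_lit 0x0))))) (.node (.node (.node (.leaf (nat_lit 0x2)) (.leaf (nat_lit 0x1001001))) (.node (.leaf (nat_lit 0x1009)) (.leaf (nat_lit 0x0)))) (.node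 (.node (.leaf (nat_lit 0x13)) (.leaf (nat_lit 0x0))) (.node (.leaf (nat_lit 0x1000013)) (.leaf (nat_lit 0x0))))))) (.node (.node (.node (.node (.node (.leaf (nat_lit 0x10)) (.leaf (nat_lit 0x100103c))) (.node (.leaf (nat_lit 0x21)) (.leaf (nat_lit 0x0)))) (.node (.node (.leaf (nat_lit 0x5)) (.leaf (nat_lit 0x0))) (.node (.leaf (nat_lit 0x1022)) (.leaf (nat_lit 0x0))))) (.node (.node (.node (.leaf (nat_lit 0x30)) (.leaf (nat_lit 0x100003c))) (.node (.leaf (nat_lit 0x3)) (.leaf (nat_lit 0x0)))) (.node (.node (.leaf (nat_lit 0x12)) (.leaf (nat_lit 0x0))) (.node (.leaf (nat_lit 0x1000019)) (.leaf (nat_lit 0x0)))))) (.node (.node (.node (.node (.leaf (nat_lit 0x20)) (.leaf (nat_lit 0x1003036))) (.node (.leaf (nat_lit 0x4032)) (.leaf (nat_lit 0x0)))) (.node (.node (.leaf (nat_lit 0xa)) (.leaf (nat_lit 0x0))) (.node (.leaf (nat_lit 0x100a)) (.leaf (nat_lit 0x0))))) (.node (.node (.node (.leaf (nat_lit 0x0)) (.leaf (nat_lit 0x1000033))) (.node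 (.leaf (nat_lit 0x3036)) (.leaf (nat_lit 0x0)))) (.node (.node (.leaf (nat_lit 0x14)) (.leaf (nat_lit 0x0))) (.node (.leaf (nat_lit 0x1000014)) (.leaf (nat_lit 0x0))))))))

/-- An entry of the table. -/
noncomputable def ent (u a : ℕ) : ℕ :=
  Nat.land
    (Nat.shiftRight
      (Nat.rec (motive := fun _ => ℕ) (Tr.get T 0) (fun m _ => Tr.get T (Nat.succ m))
        (Nat.shiftRight u 2))
      (Nat.add (Nat.mul (Nat.land u 3) 189) (Nat.mul a 21)))
    2097151

/-- The parent of a label. -/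
noncomputable def pa (v : ℕ) : ℕ := ent v 8

/-- A word. -/
noncomputable def wd (k : ℕ) : ℕ := Tr.get WT k

/-- Side data. -/
noncomputable def side (k : ℕ) : ℕ :=
  Nat.land
    (Nat.shiftRight
      (Nat.rec (motive := fun _ => ℕ) (Tr.get ST 0) (fun m _ => Tr.get ST (Nat.succ m))
        (Nat.shiftRight k 5))
      (Nat.mul (Nat.land k 31) 17))
    131071

/-- A hint. -/
noncomputable def hint (k : ℕ) : ℕ := Tr.get HT k

/-- The letters of the subgroup. -/
def baseL : List ℕ := []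

/-- Is a letter in the subgroup. -/
noncomputable def base (a : ℕ) : Bool := baseL.contains a

/-- The check of a row. -/
noncomputable def F : ℕ → Bool :=
  rowF ent pa wd side base 7 63 6 13 63 4 15 8 79 127 40 64 256

/-- Being alive. -/
noncomputable def al : ℕ → Bool := aliveB ent 7 64

end Cfsg.Agent.TcData.SuzX.Cl
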